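import Mathlib
import Groth.Prelude.Def_EtCech
import Mathlib.Algebra.Homology.ShortComplex.Ab
import Mathlib.Algebra.Homology.HomologySequence
import Mathlib.CategoryTheory.Preadditive.Injective.Basic

/-!
Čech complexes for arbitrary universes, described elementwise; injective presheaves on a locally small
category have no higher Čech cohomology (free presheaf argument).
-/

universe w v u

open CategoryTheory Category Limits Opposite

namespace Groth.Agent.CechGen

variable {D : Type u} [Category.{v} D] [HasFiniteProducts D]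

/-- The Čech complex of a family of objects. -/
noncomputable abbrev cechCx {ι : Type w} (Y : ι → D) (P : Dᵒᵖ ⥤ AddCommGrpCat.{w}) :
    CochainComplex AddCommGrpCat.{w} ℕ :=
  (cechComplexFunctor Y).obj P

variable {ι : Type w} (Y : ι → D)

/-- The product attached to a tuple of indices. -/
noncomputable abbrev tupleProd {n : ℕ} (a : Fin (n + 1) → ι) : D := ∏ᶜ (Y ∘ a)

/-- The projection forgetting one factor. -/
noncomputable abbrev tupleDrop {n : ℕ} (a : Fin (n + 2) → ι) (k : Fin (n + 2)) :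
    tupleProd Y a ⟶ tupleProd Y (a ∘ k.succAbove) :=
  Pi.lift fun i => Pi.π (Y ∘ a) (k.succAbove i)

/-- Cochains as functions on tuples. -/
abbrev Cochain (P : Dᵒᵖ ⥤ AddCommGrpCat.{w}) (n : ℕ) : Type w :=
  ∀ a : Fin (n + 1) → ι, P.obj (op (tupleProd Y a))

variable (P : Dᵒᵖ ⥤ AddCommGrpCat.{w})

/-- Degree `n` of the Čech complex as a group of functions on tuples. -/
noncomputable def cochainEquiv (n : ℕ) : (cechCx Y P).X n ≃+ Cochain Y P n :=
  { Concrete.productEquiv (fun a : Fin (n + 1) → ι => P.obj (op (tupleProd Y a))) with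
    map_add' := fun x y => funext fun a =>
      (Concrete.productEquiv_apply_apply (fun a : Fin (n + 1) → ι => P.obj (op (tupleProd Y a))) (x + y) a).trans
        ((map_add _ _ _).trans (congr_arg₂ (· + ·)
          (Concrete.productEquiv_apply_apply (fun a : Fin (n + 1) → ι => P.obj (op (tupleProd Y a))) x a).symm
          (Concrete.productEquiv_apply_apply (fun a : Fin (n + 1) → ι => P.obj (op (tupleProd Y a))) y a).symm)) }

lemma cochainEquiv_apply (n : ℕ) (x : (cechCx Y P).X n) (a : Fin (n + 1) → ι) :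
    cochainEquiv Y P n x a = Pi.π (fun a : Fin (n + 1) → ι => P.obj (op (tupleProd Y a))) a x :=
  Concrete.productEquiv_apply_apply (fun a : Fin (n + 1) → ι => P.obj (op (tupleProd Y a))) x a

lemma coface_d (X : CosimplicialObject AddCommGrpCat.{w}) (n : ℕ) :
    ((AlgebraicTopology.alternatingCofaceMapComplex AddCommGrpCat.{w}).obj X).d n (n + 1) =
      AlgebraicTopology.AlternatingCofaceMapComplex.objD X n :=
  CochainComplex.of_d (fun m => X.obj (SimplexCategory.mk m)) (AlgebraicTopology.AlternatingCofaceMapComplex.objD X) n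

/-- The Čech differential on functions. -/
noncomputable def cd {n : ℕ} (x : Cochain Y P n) : Cochain Y P (n + 1) :=
  fun a => ∑ k : Fin (n + 2), (-1 : ℤ) ^ (k : ℕ) • P.map (tupleDrop Y a k).op (x (a ∘ k.succAbove))

lemma cd_sum {n : ℕ} (x : Cochain Y P n) (a : Fin (n + 2) → ι) :
    cd Y P x a = ∑ k : Fin (n + 2), (-1 : ℤ) ^ (k : ℕ) • P.map (tupleDrop Y a k).op (x (a ∘ k.succAbove)) := rfl

lemma cochainEquiv_d (n : ℕ) (x : (cechCx Y P).X n) :
    cochainEquiv Y P (n + 1) ((cechCx Y P).d n (n + 1) x) = cd Y P (cochainEquiv Y P n x) := by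
  funext a
  let F := fun a : Fin (n + 1) → ι => P.obj (op (tupleProd Y a))
  let F' := fun a : Fin (n + 2) → ι => P.obj (op (tupleProd Y a))
  rw [cochainEquiv_apply]
  have hd : (cechCx Y P).d n (n + 1) ≫ Pi.π F' a =
      ∑ k : Fin (n + 2), (-1 : ℤ) ^ (k : ℕ) • (Pi.π F (a ∘ k.succAbove) ≫ P.map (tupleDrop Y a k).op) := by
    refine (congr_arg (· ≫ Pi.π F' a)
      (coface_d ((FormalCoproduct.cosimplicialObjectFunctor (FormalCoproduct.mk _ Y).cech).obj P) n)).trans ?_
    refine (Preadditive.sum_comp _ _ _).trans ?_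
    refine Finset.sum_congr rfl fun k _ => ?_
    refine (Preadditive.zsmul_comp _ _ _).trans ?_
    refine congr_arg _ ?_
    exact Pi.lift_π _ _
  refine (ConcreteCategory.congr_hom hd x).trans ?_
  simp only [cd_sum, cochainEquiv_apply]
  let ev : (((cechCx Y P).X n) ⟶ F' a) →+ F' a :=
    AddMonoidHom.mk' (fun f => f x) (fun _ _ => rfl)
  refine (map_sum ev _ _).trans (Finset.sum_congr rfl fun k _ => ?_)
  exact (map_zsmul ev _ _).trans rfl

lemma d_eq_zero_iff (n : ℕ) (x : (cechCx Y P).X n) :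
    (cechCx Y P).d n (n + 1) x = 0 ↔ cd Y P (cochainEquiv Y P n x) = 0 := by
  rw [← cochainEquiv_d, AddEquiv.map_eq_zero_iff]

/-- Vanishing of Čech cohomology in a positive degree, elementwise. -/
def CechExact (n : ℕ) : Prop :=
  ∀ x : Cochain Y P (n + 1), cd Y P x = 0 → ∃ y : Cochain Y P n, cd Y P y = x

lemma isZero_cech_iff (n : ℕ) : IsZero ((cechCx Y P).homology (n + 1)) ↔ CechExact Y P n := by
  rw [← HomologicalComplex.exactAt_iff_isZero_homology,
    HomologicalComplex.exactAt_iff' (cechCx Y P) n (n + 1) (n + 1 + 1) (by simp) (by simp),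
    ShortComplex.ab_exact_iff]
  constructor
  · intro h x hx
    obtain ⟨y, hy⟩ := h ((cochainEquiv Y P (n + 1)).symm x)
      ((d_eq_zero_iff Y P _ _).mpr (by rwa [AddEquiv.apply_symm_apply]))
    refine ⟨cochainEquiv Y P n y, (cochainEquiv_d Y P n y).symm.trans ?_⟩
    exact (congr_arg (cochainEquiv Y P (n + 1)) hy).trans (AddEquiv.apply_symm_apply _ _)
  · intro h x hx
    obtain ⟨y, hy⟩ := h (cochainEquiv Y P (n + 1) x) ((d_eq_zero_iff Y P _ _).mp hx)
    refine ⟨(cochainEquiv Y P n).symm y, (cochainEquiv Y P (n + 1)).injective ?_⟩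
    exact (cochainEquiv_d Y P n _).trans (by rw [AddEquiv.apply_symm_apply, hy])


section Free

set_option backward.isDefEq.respectTransparency false

variable {C : Type u} [Category.{v} C] [LocallySmall.{w} C] {U : C} [HasFiniteProducts (Over U)]
  {κ : Type w} (Uf : κ → Over U)

/-- A member of the family with a map to it. -/
abbrev S (V : C) : Type w := Σ i : κ, Shrink.{w} (V ⟶ (Uf i).left)

/-- The underlying map. -/
noncomputable abbrev g {V : C} (s : S Uf V) : V ⟶ (Uf s.1).left := (equivShrink _).symm s.2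

/-- The composite to the base. -/
noncomputable abbrev base {V : C} (s : S Uf V) : V ⟶ U := g Uf s ≫ (Uf s.1).hom

noncomputable def pre {V W : C} (f : W ⟶ V) (s : S Uf V) : S Uf W :=
  ⟨s.1, equivShrink _ (f ≫ g Uf s)⟩

lemma base_pre {V W : C} (f : W ⟶ V) (s : S Uf V) : base Uf (pre Uf f s) = f ≫ base Uf s := by
  simp [base, g, pre]

lemma g_pre {V W : C} (f : W ⟶ V) (s : S Uf V) : g Uf (pre Uf f s) = f ≫ g Uf s := by
  simp [g, pre]

/-- Tuples over a common map to the base. -/
abbrev T (m : ℕ) (V : C) : Type w :=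
  {e : Fin (m + 1) → S Uf V // ∀ k, base Uf (e k) = base Uf (e 0)}

/-- The presheaf of tuples. -/
noncomputable def TP (m : ℕ) : Cᵒᵖ ⥤ Type w where
  obj V := T Uf m V.unop
  map f := TypeCat.ofHom fun e => ⟨fun k => pre Uf f.unop (e.1 k), fun k => by rw [base_pre, base_pre, e.2]⟩
  map_id V := ConcreteCategory.hom_ext _ _ fun e => Subtype.ext (funext fun k => by simp [pre, g])
  map_comp f f' := ConcreteCategory.hom_ext _ _ fun e => Subtype.ext (funext fun k => by simp [pre, g])

/-- The free presheaf on tuples. -/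
noncomputable abbrev F (m : ℕ) : Cᵒᵖ ⥤ AddCommGrpCat.{w} := TP Uf m ⋙ AddCommGrpCat.free

/-- A generator. -/
noncomputable abbrev gen {m : ℕ} {V : Cᵒᵖ} (e : T Uf m V.unop) : (F Uf m).obj V := FreeAbelianGroup.of e

noncomputable def drop {m : ℕ} {V : C} (k : Fin (m + 2)) (e : T Uf (m + 1) V) : T Uf m V :=
  ⟨fun i => e.1 (k.succAbove i), fun i => by rw [e.2, e.2 (k.succAbove 0)]⟩

/-- The boundary. -/
noncomputable def bd (m : ℕ) : F Uf (m + 1) ⟶ F Uf m where
  app V := AddCommGrpCat.ofHom (FreeAbelianGroup.lift fun e : T Uf (m + 1) V.unop =>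
    ∑ k : Fin (m + 2), (-1 : ℤ) ^ (k : ℕ) • gen Uf (drop Uf k e))
  naturality V W f := by
    refine AddCommGrpCat.hom_ext (FreeAbelianGroup.lift_ext _ _ fun e => ?_)
    change FreeAbelianGroup.lift _ (FreeAbelianGroup.map _ (FreeAbelianGroup.of e)) =
      FreeAbelianGroup.map _ (FreeAbelianGroup.lift _ (FreeAbelianGroup.of e))
    rw [FreeAbelianGroup.map_of_apply, FreeAbelianGroup.lift_apply_of, FreeAbelianGroup.lift_apply_of,
      map_sum]
    refine Finset.sum_congr rfl fun k _ => ?_
    erw [map_zsmul, FreeAbelianGroup.map_of_apply]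
    rfl

noncomputable def liftL {m : ℕ} {V : C} (e : T Uf m V) : V ⟶ (tupleProd Uf (fun k => (e.1 k).1)).left :=
  (Pi.lift fun k => (Over.homMk (g Uf (e.1 k)) (e.2 k) :
    Over.mk (base Uf (e.1 0)) ⟶ Uf (e.1 k).1)).left

lemma liftL_π {m : ℕ} {V : C} (e : T Uf m V) (k : Fin (m + 1)) :
    liftL Uf e ≫ (Pi.π (Uf ∘ fun k => (e.1 k).1) k).left = g Uf (e.1 k) := by
  rw [liftL, ← Over.comp_left]; erw [Pi.lift_π]
  rfl

lemma liftL_unique {m : ℕ} {V : C} (e : T Uf m V) (q : V ⟶ (tupleProd Uf (fun k => (e.1 k).1)).left)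
    (h : ∀ k, q ≫ (Pi.π (Uf ∘ fun k => (e.1 k).1) k).left = g Uf (e.1 k)) : q = liftL Uf e := by
  have hb : q ≫ (tupleProd Uf (fun k => (e.1 k).1)).hom = base Uf (e.1 0) := by
    rw [← Over.w (Pi.π (Uf ∘ fun k => (e.1 k).1) 0), ← Category.assoc, h]
    rfl
  have : (Over.homMk q hb : Over.mk (base Uf (e.1 0)) ⟶ _) =
      Pi.lift fun k => Over.homMk (g Uf (e.1 k)) (e.2 k) := Pi.hom_ext _ _ fun k => by
    rw [Pi.lift_π]; exact Over.OverMorphism.ext (h k)
  exact congrArg CommaMorphism.left this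

variable (I : Cᵒᵖ ⥤ AddCommGrpCat.{w})

/-- A cochain as a map out of the free presheaf. -/
noncomputable def hom {m : ℕ} (x : Cochain Uf ((Over.forget U).op ⋙ I) m) : F Uf m ⟶ I where
  app V := AddCommGrpCat.ofHom (FreeAbelianGroup.lift fun e : T Uf m V.unop =>
    I.map (liftL Uf e).op (x fun k => (e.1 k).1))
  naturality V W f := by
    refine AddCommGrpCat.hom_ext (FreeAbelianGroup.lift_ext _ _ fun e => ?_)
    change FreeAbelianGroup.lift _ (FreeAbelianGroup.map _ (FreeAbelianGroup.of e)) =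
      I.map f (FreeAbelianGroup.lift _ (FreeAbelianGroup.of e))
    rw [FreeAbelianGroup.map_of_apply, FreeAbelianGroup.lift_apply_of, FreeAbelianGroup.lift_apply_of]
    rw [← ConcreteCategory.comp_apply, ← Functor.map_comp]
    have hl : f.unop ≫ liftL Uf e = liftL Uf ((TP Uf m).map f e) :=
      liftL_unique Uf ((TP Uf m).map f e) _ fun k => by
        erw [Category.assoc, liftL_π]
        exact (g_pre Uf _ _).symm
    rw [show (liftL Uf e).op ≫ f = (f.unop ≫ liftL Uf e).op from rfl, hl]
    rfl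

lemma bd_hom {m : ℕ} (x : Cochain Uf ((Over.forget U).op ⋙ I) m) :
    bd Uf m ≫ hom Uf I x = hom Uf I (cd Uf _ x) := by
  refine NatTrans.ext (funext fun V => AddCommGrpCat.hom_ext (FreeAbelianGroup.lift_ext _ _ fun e => ?_))
  change (hom Uf I x).app V (FreeAbelianGroup.lift _ (FreeAbelianGroup.of e)) =
    FreeAbelianGroup.lift _ (FreeAbelianGroup.of e)
  rw [FreeAbelianGroup.lift_apply_of, FreeAbelianGroup.lift_apply_of, cd_sum, map_sum, map_sum]
  refine Finset.sum_congr rfl fun k _ => ?_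
  rw [map_zsmul, map_zsmul]
  congr 1
  change FreeAbelianGroup.lift _ (FreeAbelianGroup.of _) = _
  rw [FreeAbelianGroup.lift_apply_of]
  change _ = I.map (liftL Uf e).op (I.map (tupleDrop Uf _ k).left.op _)
  rw [← ConcreteCategory.comp_apply, ← Functor.map_comp, ← op_comp]
  have hl : liftL Uf e ≫ (tupleDrop Uf (fun k => (e.1 k).1) k).left = liftL Uf (drop Uf k e) :=
    liftL_unique Uf (drop Uf k e) _ fun i => by
      erw [Category.assoc, ← Over.comp_left, Pi.lift_π, liftL_π]
      rfl
  rw [hl]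
  rfl

noncomputable def cone {m : ℕ} {V : C} (e : T Uf m V) : T Uf (m + 1) V :=
  let h : Nonempty {s : S Uf V // base Uf s = base Uf (e.1 0)} := ⟨⟨e.1 0, rfl⟩⟩
  ⟨Fin.cons (α := fun _ => S Uf V) h.some.1 e.1, fun k => by
    refine Fin.cases ?_ (fun i => ?_) k
    · rfl
    · simp only [Fin.cons_succ, Fin.cons_zero]; rw [h.some.2, e.2 i]⟩

lemma drop_zero_cone {m : ℕ} {V : C} (e : T Uf m V) : drop Uf 0 (cone Uf e) = e :=
  Subtype.ext (funext fun i => by simp [drop, cone])

lemma drop_succ_cone {m : ℕ} {V : C} (e : T Uf (m + 1) V) (k : Fin (m + 2)) :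
    drop Uf k.succ (cone Uf e) = cone Uf (drop Uf k e) := by
  have hb : base Uf ((drop Uf k e).1 0) = base Uf (e.1 0) := e.2 _
  refine Subtype.ext (funext fun i => Fin.cases ?_ (fun i => ?_) i)
  · simp only [drop, cone, Fin.succ_succAbove_zero, Fin.cons_zero]
    have : ∀ (p : V ⟶ U) (h : Nonempty {s : S Uf V // base Uf s = base Uf (e.1 0)})
        (h' : Nonempty {s : S Uf V // base Uf s = p}), p = base Uf (e.1 0) → h.some.1 = h'.some.1 := by
      intro p h h' hp; subst hp; rfl
    exact this _ _ _ hb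
  · simp [drop, cone, Fin.succ_succAbove_succ]

theorem cechExact_injective [Injective I] (n : ℕ) : CechExact Uf ((Over.forget U).op ⋙ I) n := by
  intro x hx
  let φ := hom Uf I x
  have h1 : bd Uf (n + 1) ≫ φ = 0 := by
    rw [bd_hom, hx]
    refine NatTrans.ext (funext fun V => AddCommGrpCat.hom_ext (FreeAbelianGroup.lift_ext _ _ fun e => ?_))
    change FreeAbelianGroup.lift _ (FreeAbelianGroup.of e) = 0
    rw [FreeAbelianGroup.lift_apply_of]; exact map_zero _
  have h2 : ∀ (V : Cᵒᵖ) (z : (F Uf (n + 1)).obj V), (bd Uf n).app V z = 0 → φ.app V z = 0 := by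
    intro V z hz
    let cm : ∀ m, (F Uf m).obj V →+ (F Uf (m + 1)).obj V := fun m =>
      FreeAbelianGroup.map (cone Uf)
    have key : (((bd Uf (n + 1)).app V).hom.comp (cm (n + 1))) +
        (cm n).comp ((bd Uf n).app V).hom = AddMonoidHom.id _ := FreeAbelianGroup.lift_ext _ _ fun e => by
      change FreeAbelianGroup.lift _ (FreeAbelianGroup.map _ (FreeAbelianGroup.of e)) +
        FreeAbelianGroup.map _ (FreeAbelianGroup.lift _ (FreeAbelianGroup.of e)) = FreeAbelianGroup.of e
      rw [FreeAbelianGroup.map_of_apply, FreeAbelianGroup.lift_apply_of, FreeAbelianGroup.lift_apply_of,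
        map_sum, Fin.sum_univ_succ, drop_zero_cone]
      simp only [Fin.val_zero, pow_zero, one_zsmul, Fin.val_succ, pow_succ, mul_neg, mul_one, neg_smul,
        Finset.sum_neg_distrib, drop_succ_cone, gen]
      rw [add_assoc]
      convert add_zero _ using 2
      rw [neg_add_eq_zero]
      refine Finset.sum_congr rfl fun k _ => ?_
      erw [map_zsmul, FreeAbelianGroup.map_of_apply]
    have hz' : z = (bd Uf (n + 1)).app V (cm (n + 1) z) := by
      have := DFunLike.congr_fun key z
      simp only [AddMonoidHom.add_apply, AddMonoidHom.comp_apply, AddMonoidHom.id_apply] at this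
      erw [hz, map_zero, add_zero] at this
      exact this.symm
    rw [hz', ← ConcreteCategory.comp_apply, ← NatTrans.comp_app, h1]
    rfl
  have hk : kernel.ι (bd Uf n) ≫ φ = 0 := by
    refine NatTrans.ext (funext fun V => ?_)
    ext z
    exact h2 V _ (ConcreteCategory.congr_hom (NatTrans.congr_app (kernel.condition (bd Uf n)) V) z)
  let φ' : Abelian.coimage (bd Uf n) ⟶ I := cokernel.desc _ φ hk
  let ψ := Injective.factorThru φ' (Abelian.factorThruCoimage (bd Uf n))
  have hψ : bd Uf n ≫ ψ = φ := by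
    conv_lhs => rw [← Abelian.coimage.fac (bd Uf n)]
    rw [Category.assoc, Injective.comp_factorThru]
    exact cokernel.π_desc _ _ _
  let un : ∀ (m : ℕ) (a : Fin (m + 1) → κ), T Uf m (tupleProd Uf a).left := fun m a =>
    ⟨fun k => ⟨a k, equivShrink _ (Pi.π (Uf ∘ a) k).left⟩, fun k => by
      simp only [base, g, Equiv.symm_apply_apply]; exact (Over.w _).trans (Over.w _).symm⟩
  refine ⟨fun a => ψ.app (op (tupleProd Uf a).left) (gen Uf (un n a)), funext fun a => ?_⟩
  have h3 := ConcreteCategory.congr_hom (NatTrans.congr_app hψ (op (tupleProd Uf a).left)) (gen Uf (un (n + 1) a))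
  have hid : liftL Uf (un (n + 1) a) = 𝟙 _ :=
    (liftL_unique Uf (un (n + 1) a) (𝟙 _) fun k => by simp [un, g]).symm
  have h4 : φ.app (op (tupleProd Uf a).left) (gen Uf (un (n + 1) a)) = x a := by
    change FreeAbelianGroup.lift _ (FreeAbelianGroup.of _) = _
    rw [FreeAbelianGroup.lift_apply_of]
    erw [hid, op_id, I.map_id]
    rfl
  rw [← h4, ← h3]
  change _ = ψ.app _ (FreeAbelianGroup.lift _ (FreeAbelianGroup.of _))
  rw [FreeAbelianGroup.lift_apply_of, map_sum, cd_sum]
  refine Finset.sum_congr rfl fun k _ => ?_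
  rw [map_zsmul]
  congr 1
  change I.map (tupleDrop Uf a k).left.op (ψ.app _ _) = _
  rw [← NatTrans.naturality_apply]
  congr 1
  refine (FreeAbelianGroup.map_of_apply _).trans (congrArg FreeAbelianGroup.of ?_)
  refine Subtype.ext (funext fun i => ?_)
  change pre Uf (tupleDrop Uf a k).left ⟨a (k.succAbove i), _⟩ = ⟨a (k.succAbove i), _⟩
  simp only [pre, g]
  congr 2
  erw [Equiv.symm_apply_apply, ← Over.comp_left, Pi.lift_π]

theorem isZero_cechH [Injective I] (p : ℕ) : IsZero (EtCech.cechH Uf I (p + 1)) :=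
  (isZero_cech_iff Uf _ p).mpr (cechExact_injective Uf I p)

end Free

end Groth.Agent.CechGen
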