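import Mathlib
import Groth.Prelude.Def_EtCech
import Groth.Agent.CechGen.Basic

/-! The Cech complex of presheaves is an exact additive functor (any universes). -/

set_option autoImplicit false
set_option linter.style.haveILetI false
set_option backward.isDefEq.respectTransparency false
set_option backward.isDefEq.respectTransparency.types false

universe w v u

open CategoryTheory Category Limits Opposite

noncomputable section

namespace Groth.Agent.CechGen

variable {C : Type u} [Category.{v} C] {U : C} [HasFiniteProducts (Over U)] {ι : Type w} (Uf : ι → Over U)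

/-- The Čech complex of presheaves on `C` relative to a family over `U`. -/
abbrev cxFun : (Cᵒᵖ ⥤ AddCommGrpCat.{w}) ⥤ CochainComplex AddCommGrpCat.{w} ℕ :=
  (Functor.whiskeringLeft _ _ _).obj (Over.forget U).op ⋙ cechComplexFunctor Uf

theorem cxFun_f_π {P Q : Cᵒᵖ ⥤ AddCommGrpCat.{w}} (f : P ⟶ Q) (n : ℕ) (a : Fin (n + 1) → ι) :
    ((cxFun Uf).map f).f n ≫ Pi.π (fun a : Fin (n + 1) → ι => Q.obj (op (tupleProd Uf a).left)) a =
      Pi.π (fun a : Fin (n + 1) → ι => P.obj (op (tupleProd Uf a).left)) a ≫ f.app (op (tupleProd Uf a).left) :=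
  limMap_π _ _

theorem cxFun_apply {P Q : Cᵒᵖ ⥤ AddCommGrpCat.{w}} (f : P ⟶ Q) (n : ℕ) (x : ((cxFun Uf).obj P).X n)
    (a : Fin (n + 1) → ι) :
    cochainEquiv Uf ((Over.forget U).op ⋙ Q) n (((cxFun Uf).map f).f n x) a =
      f.app (op (tupleProd Uf a).left) (cochainEquiv Uf ((Over.forget U).op ⋙ P) n x a) := by
  rw [cochainEquiv_apply, cochainEquiv_apply]
  exact ConcreteCategory.congr_hom (cxFun_f_π Uf f n a) x

instance cxFun_additive : (cxFun Uf).Additive where
  map_add {P Q f g} := by
    refine HomologicalComplex.hom_ext _ _ fun n => AddCommGrpCat.hom_ext (AddMonoidHom.ext fun x => ?_)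
    refine (cochainEquiv Uf ((Over.forget U).op ⋙ Q) n).injective (funext fun a => ?_)
    refine (cxFun_apply Uf (f + g) n x a).trans ?_
    show _ = cochainEquiv Uf ((Over.forget U).op ⋙ Q) n
      (((cxFun Uf).map f).f n x + ((cxFun Uf).map g).f n x) a
    rw [map_add]
    show _ = cochainEquiv Uf ((Over.forget U).op ⋙ Q) n (((cxFun Uf).map f).f n x) a +
      cochainEquiv Uf ((Over.forget U).op ⋙ Q) n (((cxFun Uf).map g).f n x) a
    rw [cxFun_apply, cxFun_apply]
    rfl

theorem cxFun_shortExact (T : ShortComplex (Cᵒᵖ ⥤ AddCommGrpCat.{w})) (hT : T.ShortExact) :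
    (T.map (cxFun Uf)).ShortExact := by
  have hV : ∀ V : Cᵒᵖ, (T.map ((evaluation Cᵒᵖ AddCommGrpCat.{w}).obj V)).ShortExact := fun V =>
    hT.map_of_exact _
  refine HomologicalComplex.shortExact_of_degreewise_shortExact _ fun n => ?_
  refine @ShortComplex.ShortExact.mk _ _ _ _ ?_ ?_ ?_
  · rw [ShortComplex.ab_exact_iff]
    intro x hx
    choose w hw using fun a => (ShortComplex.ab_exact_iff _).mp (hV (op (tupleProd Uf a).left)).exact
      (cochainEquiv Uf ((Over.forget U).op ⋙ T.X₂) n x a) ((cxFun_apply Uf T.g n x a).symm.trans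
        (congrFun ((congr_arg _ hx).trans (map_zero (cochainEquiv Uf ((Over.forget U).op ⋙ T.X₃) n))) a))
    refine ⟨(cochainEquiv Uf ((Over.forget U).op ⋙ T.X₁) n).symm w,
      (cochainEquiv Uf ((Over.forget U).op ⋙ T.X₂) n).injective (funext fun a => ?_)⟩
    refine (cxFun_apply Uf T.f n _ a).trans ?_
    rw [AddEquiv.apply_symm_apply]
    exact hw a
  · refine (AddCommGrpCat.mono_iff_injective _).mpr fun x y h =>
      (cochainEquiv Uf ((Over.forget U).op ⋙ T.X₁) n).injective (funext fun a => ?_)
    exact (AddCommGrpCat.mono_iff_injective _).mp (hV (op (tupleProd Uf a).left)).mono_f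
      ((cxFun_apply Uf T.f n x a).symm.trans ((congrFun (congr_arg _ h) a).trans (cxFun_apply Uf T.f n y a)))
  · refine (AddCommGrpCat.epi_iff_surjective _).mpr fun z => ?_
    choose w hw using fun a => (AddCommGrpCat.epi_iff_surjective _).mp (hV (op (tupleProd Uf a).left)).epi_g
      (cochainEquiv Uf ((Over.forget U).op ⋙ T.X₃) n z a)
    refine ⟨(cochainEquiv Uf ((Over.forget U).op ⋙ T.X₂) n).symm w,
      (cochainEquiv Uf ((Over.forget U).op ⋙ T.X₃) n).injective (funext fun a => ?_)⟩
    refine (cxFun_apply Uf T.g n _ a).trans ?_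
    rw [AddEquiv.apply_symm_apply]
    exact hw a

end Groth.Agent.CechGen
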